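import Groth.Agent.ArLefNode.Node
import Mathlib.Algebra.Regular.Basic
import Mathlib.Data.ENat.Basic

/-!
# Fixed-point ideals on the formal double point
-/

set_option autoImplicit false

universe u

noncomputable section

open MvPowerSeries

namespace Groth.Agent.ArLefNode

variable {B : Type u} [CommRing B] {π : B}

local notation "N" => ArLef.NodeAlg B π
local notation "tt" => ArLef.NodeAlg.t π
local notation "ee" => ArLef.NodeAlg.e π
local notation "jj" => algebraMap B (ArLef.NodeAlg B π)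

variable [IsDomain B] [IsLocalRing B] [IsNoetherianRing B] [hp : (Ideal.span {π}).IsMaximal]

include hp

omit [IsDomain B] in
theorem fixIdeal_eq_span3 (σ : N ≃+* N) {j : ℕ} (γ : Bˣ)
    (hσB : ∀ b, σ (jj b) - jj b ∈ Ideal.span {jj (π ^ j)})
    (hσπ : σ (jj π) = jj (π + γ * π ^ j)) :
    ArLef.fixIdeal σ = Ideal.span {jj (π ^ j), σ tt - tt, σ ee - ee} := by
  refine le_antisymm (fixIdeal_le_node σ (fun b => ?_) (Ideal.subset_span (by simp)) (Ideal.subset_span (by simp))) ?_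
  · exact Ideal.span_mono (by simp) (hσB b)
  · rw [Ideal.span_le]
    rintro x (rfl | rfl | rfl)
    · have h := sub_mem_fixIdeal σ (jj π)
      rw [hσπ, map_add, add_sub_cancel_left, map_mul] at h
      exact mem_of_unit_mul_mem (Units.map (jj : B →* N) γ).isUnit _ h
    · exact sub_mem_fixIdeal σ _
    · exact sub_mem_fixIdeal σ _

theorem switch_or_stabilize (hπ : π ≠ 0) (σ : N ≃+* N) (hσ : Associated (σ (jj π)) (jj π)) :
    (∃ α β : Nˣ, σ tt = (α : N) * tt ∧ σ ee = (β : N) * ee) ∨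
      ∃ α β : Nˣ, σ tt = (α : N) * ee ∧ σ ee = (β : N) * tt := by
  obtain ⟨u, hu⟩ := hσ
  rw [← t_mul_e, map_mul] at hu
  have hσt : ¬ IsUnit (σ tt) := fun h => t_not_unit (π := π) (by simpa using h.map (σ.symm : N →+* N))
  have hσe : ¬ IsUnit (σ ee) := fun h => e_not_unit (π := π) (by simpa using h.map (σ.symm : N →+* N))
  have htd : tt ∣ σ tt * σ ee :=
    ⟨ee * ↑u⁻¹, by rw [← mul_assoc, ← hu, mul_assoc, Units.mul_inv, mul_one]⟩
  have hed : ee ∣ σ tt * σ ee :=
    ⟨tt * ↑u⁻¹, by rw [← mul_assoc, mul_comm ee, ← hu, mul_assoc, Units.mul_inv, mul_one]⟩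
  have key : ∀ c d : N, tt * ee * (c * d) * (u : N) = tt * ee → IsUnit c ∧ IsUnit d := by
    intro c d h
    have h1 : c * d * (u : N) = 1 :=
      ((t_regular (π := π) hπ).mul (e_regular hπ)) (show tt * ee * (c * d * (u : N)) = tt * ee * 1 by
        rw [mul_one, ← mul_assoc, h])
    have h2 : IsUnit (c * d) := ⟨⟨c * d, (u : N), h1, (mul_comm _ _).trans h1⟩, rfl⟩
    exact ⟨isUnit_of_mul_isUnit_left h2, isUnit_of_mul_isUnit_right h2⟩
  rcases t_prime_dvd htd with ⟨c, hc⟩ | ⟨c, hc⟩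
  · rcases e_prime_dvd hed with h | ⟨d, hd⟩
    · rw [hc] at h
      obtain ⟨c', rfl⟩ := e_dvd_of_dvd_t_mul h
      exact absurd (key c' (σ ee) (by rw [hc] at hu; linear_combination hu)).2 hσe
    · obtain ⟨hcu, hdu⟩ := key c d (by rw [hc, hd] at hu; linear_combination hu)
      exact Or.inl ⟨hcu.unit, hdu.unit, hc.trans (mul_comm _ _), hd.trans (mul_comm _ _)⟩
  · rcases e_prime_dvd hed with ⟨d, hd⟩ | h
    · obtain ⟨hcu, hdu⟩ := key c d (by rw [hc, hd] at hu; linear_combination hu)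
      exact Or.inr ⟨hdu.unit, hcu.unit, hd.trans (mul_comm _ _), hc.trans (mul_comm _ _)⟩
    · rw [hc] at h
      obtain ⟨c', rfl⟩ := e_dvd_of_dvd_t_mul h
      exact absurd (key c' (σ tt) (by rw [hc] at hu; linear_combination hu)).2 hσt

omit [IsNoetherianRing B] in
theorem not_fixIdeal_le (hπ : π ≠ 0) {j : ℕ} (hj : 1 ≤ j) (γ : Bˣ) (σ : N ≃+* N)
    (hσπ : σ (jj π) = jj (π + γ * π ^ j)) : ¬ ArLef.fixIdeal σ ≤ Ideal.span {jj (π ^ j)} := by
  intro h
  obtain ⟨a, ha⟩ := Ideal.mem_span_singleton'.mp (h (sub_mem_fixIdeal σ tt))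
  obtain ⟨b, hb⟩ := Ideal.mem_span_singleton'.mp (h (sub_mem_fixIdeal σ ee))
  obtain ⟨i, rfl⟩ : ∃ i, j = i + 1 := ⟨j - 1, by omega⟩
  have h1 : σ tt * σ ee = jj π + jj γ * jj π ^ (i + 1) := by
    rw [← map_mul, t_mul_e, hσπ, map_add, map_mul, map_pow]
  rw [eq_add_of_sub_eq ha.symm, eq_add_of_sub_eq hb.symm, map_pow, ← t_mul_e] at h1
  have h2 : jj γ = a * ee + b * tt + a * b * (tt * ee) ^ (i + 1) := by
    refine (((t_regular (π := π) hπ).mul (e_regular hπ)).pow (i + 1)) ?_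
    show (tt * ee) ^ (i + 1) * _ = (tt * ee) ^ (i + 1) * _
    linear_combination -h1
  have h3 : jj γ ∈ Ideal.span {tt, ee} := Ideal.mem_span_pair.mpr
    ⟨b + a * b * ee * (tt * ee) ^ i, a, by rw [h2]; ring⟩
  exact span_ne_top (π := π) (Ideal.eq_top_of_isUnit_mem _ h3 (γ.isUnit.map jj))

theorem fixIdeal_stabilize (hπ : π ≠ 0) (σ : N ≃ₐ[B] N) (hσ : σ ≠ AlgEquiv.refl)
    (ht : Associated (σ tt) tt) (he : Associated (σ ee) ee) :
    ∃ g : N, g ≠ 0 ∧ ArLef.fixIdeal σ = Ideal.span {g} * Ideal.span {tt, ee} := by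
  obtain ⟨a, ha⟩ := ht.symm
  obtain ⟨b, hb⟩ := he.symm
  have hab : (a : N) * b = 1 := by
    have h1 : σ tt * σ ee = tt * ee := by rw [← map_mul, t_mul_e, AlgEquiv.commutes]
    rw [← ha, ← hb] at h1
    refine ((t_regular (π := π) hπ).mul (e_regular hπ)) ?_
    show tt * ee * _ = tt * ee * 1
    linear_combination h1
  have heq : ArLef.fixIdeal σ = Ideal.span {(a : N) - 1} * Ideal.span {tt, ee} := by
    rw [Ideal.span_mul_span', Set.singleton_mul, Set.image_insert_eq, Set.image_singleton]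
    refine le_antisymm (fixIdeal_le_node σ.toRingEquiv (fun c => ?_) ?_ ?_) (Ideal.span_le.mpr ?_)
    · show σ (jj c) - jj c ∈ _
      rw [AlgEquiv.commutes, sub_self]
      exact Ideal.zero_mem _
    · show σ tt - tt ∈ _
      exact Ideal.mem_span_pair.mpr ⟨1, 0, by rw [← ha]; ring⟩
    · show σ ee - ee ∈ _
      exact Ideal.mem_span_pair.mpr ⟨0, -(b : N), by rw [← hb]; linear_combination -(ee * hab)⟩
    · rintro x (rfl | rfl)
      · have := sub_mem_fixIdeal σ tt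
        rwa [← ha, show tt * (a : N) - tt = ((a : N) - 1) * tt by ring] at this
      · have := Ideal.mul_mem_left _ (-(a : N)) (sub_mem_fixIdeal σ ee)
        rwa [← hb, show -(a : N) * (ee * (b : N) - ee) = ((a : N) - 1) * ee by linear_combination -(ee * hab)] at this
  refine ⟨(a : N) - 1, fun h0 => hσ ?_, heq⟩
  rw [h0, Ideal.span_singleton_eq_bot.mpr rfl, Ideal.bot_mul] at heq
  ext x
  have := sub_mem_fixIdeal σ x
  rw [heq, Ideal.mem_bot, sub_eq_zero] at this
  exact this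

omit [IsDomain B] [IsNoetherianRing B] in
theorem not_mem_sq (α : Nˣ) : (α : N) * ee - tt ∉ Ideal.span {tt, ee} ^ 2 := by
  intro h
  have h1 : branch π 1 ((α : N) * ee - tt) ∈ Ideal.span {(PowerSeries.X : PowerSeries (B ⧸ Ideal.span {π})) ^ 2} := by
    have h2 := Ideal.mem_map_of_mem (branch π 1) h
    rw [Ideal.map_pow, Ideal.map_span, Set.image_pair, branch_t, branch_one_e, Ideal.span_insert_zero,
      Ideal.span_singleton_pow] at h2
    exact h2
  rw [map_sub, map_mul, branch_t, branch_one_e, sub_zero, Ideal.mem_span_singleton, pow_two] at h1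
  obtain ⟨c, hc⟩ := h1
  have h3 : branch π 1 (α : N) = PowerSeries.X * c :=
    mul_right_cancel₀ (PowerSeries.X_ne_zero) (by rw [hc]; ring)
  have h4 := (α.isUnit.map (branch π 1))
  rw [h3] at h4
  exact PowerSeries.X_prime.not_unit (isUnit_of_mul_isUnit_left h4)

omit [IsNoetherianRing B] in
theorem dvd_of_switch_dvd_mul (hπ : π ≠ 0) (α : Nˣ) {y : N}
    (h : (α : N) * ee - tt ∣ jj π * y) : (α : N) * ee - tt ∣ y := by
  obtain ⟨c, hc⟩ := h
  rw [← t_mul_e] at hc
  have h1 : tt ∣ c := by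
    refine (t_prime_dvd (π := π) (x := (α : N) * ee) (y := c) ⟨ee * y + c, by linear_combination -hc⟩).resolve_left ?_
    intro hd
    exact (t_prime_dvd hd).elim (not_t_dvd_unit α) not_t_dvd_e
  obtain ⟨c', rfl⟩ := h1
  have h2 : ee * y = ((α : N) * ee - tt) * c' := t_regular (π := π) hπ (by
    show tt * (ee * y) = tt * (((α : N) * ee - tt) * c')
    linear_combination hc)
  have h3 : ee ∣ c' := e_dvd_of_dvd_t_mul ⟨(α : N) * c' - y, by linear_combination h2⟩
  obtain ⟨c'', rfl⟩ := h3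
  exact ⟨c'', e_regular (π := π) hπ (by
    show ee * y = ee * (((α : N) * ee - tt) * c'')
    linear_combination h2)⟩

theorem fixIdeal_switch_alg (hπ : π ≠ 0) (σ : N ≃ₐ[B] N)
    (ht : Associated (σ tt) ee) (he : Associated (σ ee) tt) :
    ∃ h : N, ArLef.fixIdeal σ = Ideal.span {h} ∧ h ∉ Ideal.span {tt, ee} ^ 2 ∧
      IsSMulRegular (N ⧸ Ideal.span ({h} : Set N)) π := by
  obtain ⟨a, ha⟩ := ht.symm
  obtain ⟨b, hb⟩ := he.symm
  have hab : (a : N) * b = 1 := by
    have h1 : σ tt * σ ee = tt * ee := by rw [← map_mul, t_mul_e, AlgEquiv.commutes]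
    rw [← ha, ← hb] at h1
    refine ((t_regular (π := π) hπ).mul (e_regular hπ)) ?_
    show tt * ee * _ = tt * ee * 1
    linear_combination h1
  refine ⟨(a : N) * ee - tt, ?_, not_mem_sq a, ?_⟩
  · refine le_antisymm (fixIdeal_le_node σ.toRingEquiv (fun c => ?_) ?_ ?_) (Ideal.span_le.mpr ?_)
    · show σ (jj c) - jj c ∈ _
      rw [AlgEquiv.commutes, sub_self]
      exact Ideal.zero_mem _
    · show σ tt - tt ∈ _
      exact Ideal.mem_span_singleton'.mpr ⟨1, by rw [← ha]; ring⟩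
    · show σ ee - ee ∈ _
      exact Ideal.mem_span_singleton'.mpr ⟨-(b : N), by rw [← hb]; linear_combination -(ee * hab)⟩
    · rintro x rfl
      have := sub_mem_fixIdeal σ tt
      rwa [← ha, mul_comm ee] at this
  · intro x y hxy
    obtain ⟨x, rfl⟩ := Ideal.Quotient.mk_surjective x
    obtain ⟨y, rfl⟩ := Ideal.Quotient.mk_surjective y
    change Ideal.Quotient.mk _ (π • x) = Ideal.Quotient.mk _ (π • y) at hxy
    rw [Ideal.Quotient.eq, ← smul_sub, Ideal.mem_span_singleton] at hxy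
    have e : π • (x - y) = jj π * (x - y) := by
      obtain ⟨f, hf⟩ := Ideal.Quotient.mk_surjective (x - y)
      rw [← hf]
      show Ideal.Quotient.mk _ (π • f) = _
      rw [MvPowerSeries.smul_eq_C_mul, map_mul]
      rfl
    rw [e] at hxy
    rw [Ideal.Quotient.eq, Ideal.mem_span_singleton]
    exact dvd_of_switch_dvd_mul hπ a hxy

theorem switch_residual (hπ : π ≠ 0) {j : ℕ} (hj : 1 ≤ j) (γ : Bˣ) (σ : N ≃+* N)
    (hσB : ∀ b, σ (jj b) - jj b ∈ Ideal.span {jj (π ^ j)})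
    (hσπ : σ (jj π) = jj (π + γ * π ^ j)) (ht : Associated (σ tt) ee) (he : Associated (σ ee) tt) :
    (∀ g : N, ArLef.fixIdeal σ ≤ Ideal.span ({g} : Set N) → IsUnit g) ∧
      Module.length N (N ⧸ ArLef.fixIdeal σ) = ((2 * j - 1 : ℕ) : ℕ∞) := by
  obtain ⟨a, ha⟩ := ht.symm
  obtain ⟨b, hb⟩ := he.symm
  obtain ⟨i, rfl⟩ : ∃ i, j = i + 1 := ⟨j - 1, by omega⟩
  have hab : (a : N) * b = 1 + jj γ * (tt * ee) ^ i := by
    have h1 : σ tt * σ ee = tt * ee + jj γ * (tt * ee) ^ (i + 1) := by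
      rw [← map_mul, t_mul_e, hσπ, map_add, map_mul, map_pow]
    rw [← ha, ← hb] at h1
    refine ((t_regular (π := π) hπ).mul (e_regular hπ)) ?_
    show tt * ee * _ = tt * ee * _
    linear_combination h1
  set h : N := (a : N) * ee - tt with hh
  have hI : ArLef.fixIdeal σ = Ideal.span {h, (tt * ee) ^ i * ee} := by
    rw [fixIdeal_eq_span3 σ γ hσB hσπ]
    refine le_antisymm (Ideal.span_le.mpr ?_) (Ideal.span_le.mpr ?_)
    · rintro x (rfl | rfl | rfl) <;> refine Ideal.mem_span_pair.mpr ?_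
      · exact ⟨0, tt, by rw [map_pow, ← t_mul_e]; ring⟩
      · exact ⟨1, 0, by rw [← ha, hh]; ring⟩
      · exact ⟨-(b : N), jj γ, by rw [← hb, hh]; linear_combination -(ee * hab)⟩
    · rintro x (rfl | rfl) <;> refine Submodule.mem_span_triple.mpr ?_
      · exact ⟨0, 1, 0, by simp only [smul_eq_mul]; rw [← ha, hh]; ring⟩
      · refine ⟨0, (b : N) * jj ↑γ⁻¹, jj ↑γ⁻¹, ?_⟩
        have h1 : jj ↑γ⁻¹ * jj γ = 1 := by rw [← map_mul, Units.inv_mul, map_one]
        simp only [smul_eq_mul]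
        rw [← ha, ← hb]
        linear_combination (ee * jj ↑γ⁻¹) * hab + ((tt * ee) ^ i * ee) * h1
  have hth : ¬ tt ∣ h := by
    rw [hh, dvd_sub_left (dvd_refl tt)]
    exact fun hd => (t_prime_dvd hd).elim (not_t_dvd_unit a) not_t_dvd_e
  have heh : ¬ ee ∣ h := by
    rw [hh, dvd_sub_right (dvd_mul_left ee _)]
    exact not_e_dvd_t
  have hreg_t : ∀ y, h ∣ tt * y → h ∣ y := fun y ⟨c, hc⟩ => by
    obtain ⟨c', rfl⟩ := (t_prime_dvd (π := π) (x := h) (y := c) ⟨y, hc.symm⟩).resolve_left hth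
    exact ⟨c', t_regular (π := π) hπ (by show tt * y = tt * (h * c'); linear_combination hc)⟩
  have hreg_e : ∀ y, h ∣ ee * y → h ∣ y := fun y ⟨c, hc⟩ => by
    obtain ⟨c', rfl⟩ := (e_prime_dvd (π := π) (x := h) (y := c) ⟨y, hc.symm⟩).resolve_left heh
    exact ⟨c', e_regular (π := π) hπ (by show ee * y = ee * (h * c'); linear_combination hc)⟩
  have hreg_te : ∀ y, h ∣ tt * ee * y → h ∣ y := fun y hy => hreg_e y (hreg_t _ (mul_assoc tt ee y ▸ hy))
  constructor
  · intro g hg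
    rw [hI] at hg
    have hgh : g ∣ h := Ideal.mem_span_singleton.mp (hg (Ideal.subset_span (by simp)))
    have hge : g ∣ tt ^ i * ee ^ (i + 1) := Ideal.mem_span_singleton.mp (by
      have := hg (Ideal.subset_span (show (tt * ee) ^ i * ee ∈ ({h, (tt * ee) ^ i * ee} : Set N) by simp))
      rwa [mul_pow, mul_assoc, ← pow_succ] at this)
    have hgt : ¬ tt ∣ g := fun hd => hth (hd.trans hgh)
    have hge' : ¬ ee ∣ g := fun hd => heh (hd.trans hgh)
    have key : ∀ (m : ℕ) (y : N), g ∣ tt ^ m * y → g ∣ y := fun m => by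
      induction m with
      | zero => simp
      | succ m ih =>
        intro y hy
        obtain ⟨c, hc⟩ := hy
        rw [pow_succ', mul_assoc] at hc
        obtain ⟨c', rfl⟩ := (t_prime_dvd (π := π) (x := g) (y := c) ⟨_, hc.symm⟩).resolve_left hgt
        exact ih y ⟨c', t_regular (π := π) hπ (by show tt * (tt ^ m * y) = tt * (g * c'); linear_combination hc)⟩
    have key' : ∀ (m : ℕ) (y : N), g ∣ ee ^ m * y → g ∣ y := fun m => by
      induction m with
      | zero => simp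
      | succ m ih =>
        intro y hy
        obtain ⟨c, hc⟩ := hy
        rw [pow_succ', mul_assoc] at hc
        obtain ⟨c', rfl⟩ := (e_prime_dvd (π := π) (x := g) (y := c) ⟨_, hc.symm⟩).resolve_left hge'
        exact ih y ⟨c', e_regular (π := π) hπ (by show ee * (ee ^ m * y) = ee * (g * c'); linear_combination hc)⟩
    exact isUnit_of_dvd_one (key' (i + 1) 1 (by rw [mul_one]; exact key i _ hge))
  · show len (ArLef.fixIdeal σ) = _
    have h1 : len (Ideal.span {h, ee}) = 1 := by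
      rw [show Ideal.span {h, ee} = Ideal.span {tt, ee} from ?_, len_t_e]
      refine le_antisymm (Ideal.span_le.mpr ?_) (Ideal.span_le.mpr ?_)
      · rintro x (rfl | rfl) <;> refine Ideal.mem_span_pair.mpr ?_
        · exact ⟨-1, a, by rw [hh]; ring⟩
        · exact ⟨0, 1, by ring⟩
      · rintro x (rfl | rfl) <;> refine Ideal.mem_span_pair.mpr ?_
        · exact ⟨-1, a, by rw [hh]; ring⟩
        · exact ⟨0, 1, by ring⟩
    have h2 : len (Ideal.span {h, tt}) = 1 := by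
      rw [show Ideal.span {h, tt} = Ideal.span {tt, ee} from ?_, len_t_e]
      have hinv : ((a⁻¹ : Nˣ) : N) * (a : N) = 1 := a.inv_mul
      refine le_antisymm (Ideal.span_le.mpr ?_) (Ideal.span_le.mpr ?_)
      · rintro x (rfl | rfl) <;> refine Ideal.mem_span_pair.mpr ?_
        · exact ⟨-1, a, by rw [hh]; ring⟩
        · exact ⟨1, 0, by ring⟩
      · rintro x (rfl | rfl) <;> refine Ideal.mem_span_pair.mpr ?_
        · exact ⟨0, 1, by ring⟩
        · exact ⟨((a⁻¹ : Nˣ) : N), ((a⁻¹ : Nˣ) : N), by rw [hh]; linear_combination ee * hinv⟩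
    rw [hI, mul_comm ((tt * ee) ^ i) ee, len_pair_mul _ hreg_e, len_pair_pow hreg_te, len_pair_mul _ hreg_t, h1, h2]
    rw [show 2 * (i + 1) - 1 = 1 + i * 2 by omega]
    push_cast
    rfl

/-- The residual length when both branches are fixed. -/
theorem len_residual (hπ : π ≠ 0) {p q : ℕ} (hp' : 1 ≤ p) (hq : 1 ≤ q) (α γ : Nˣ) {a b : N}
    (rel : (α : N) * b = (γ : N) * (tt ^ (p - 1) * ee ^ (q - 1)) - a) (htb : ¬ tt ∣ b) (hea : ¬ ee ∣ a) :
    len (Ideal.span {tt ^ p * ee ^ q, a * tt, b * ee}) =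
      1 + (p : ℕ∞) * len (Ideal.span {tt, b}) + (q : ℕ∞) * len (Ideal.span {ee, a}) := by
  obtain ⟨p, rfl⟩ : ∃ p', p = p' + 1 := ⟨p - 1, by omega⟩
  obtain ⟨q, rfl⟩ : ∃ q', q = q' + 1 := ⟨q - 1, by omega⟩
  rw [Nat.add_sub_cancel, Nat.add_sub_cancel] at rel
  have hα : ((α⁻¹ : Nˣ) : N) * (α : N) = 1 := α.inv_mul
  rw [len_eq_add (K := Ideal.span {a, tt ^ p * ee ^ (q + 1)}) tt fun x => ?_]
  · have h1 : Ideal.span {tt ^ (p + 1) * ee ^ (q + 1), a * tt, b * ee} ⊔ Ideal.span {tt} =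
        Ideal.span {tt, b * ee} := by
      refine le_antisymm (sup_le (Ideal.span_le.mpr ?_) (Ideal.span_mono (by simp))) (Ideal.span_le.mpr ?_)
      · rintro x (rfl | rfl | rfl) <;> refine Ideal.mem_span_pair.mpr ?_
        · exact ⟨tt ^ p * ee ^ (q + 1), 0, by ring⟩
        · exact ⟨a, 0, by ring⟩
        · exact ⟨0, 1, by ring⟩
      · rintro x (rfl | rfl)
        · exact Ideal.mem_sup_right (Ideal.mem_span_singleton_self _)
        · exact Ideal.mem_sup_left (Ideal.subset_span (by simp))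
    have hb : ∀ y, tt ∣ b * y → tt ∣ y := fun y hy => (t_prime_dvd hy).resolve_left htb
    have hae : ∀ y, a ∣ ee * y → a ∣ y := fun y ⟨c, hc⟩ => by
      obtain ⟨c', rfl⟩ := (e_prime_dvd (π := π) (x := a) (y := c) ⟨y, hc.symm⟩).resolve_left hea
      exact ⟨c', e_regular (π := π) hπ (by show ee * y = ee * (a * c'); linear_combination hc)⟩
    rw [h1, len_pair_mul _ hb, len_t_e]
    rcases Nat.eq_zero_or_pos p with rfl | hp0
    · rw [pow_zero, one_mul, len_pair_pow hae, (Ideal.span_pair_comm : Ideal.span {a, ee} = Ideal.span {ee, a})]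
      push_cast
      ring
    · have hta : ¬ tt ∣ a := fun hd => htb ((t_prime_dvd (π := π) (x := (α : N)) (y := b) (by
        rw [rel]
        exact dvd_sub (Dvd.dvd.mul_left (Dvd.dvd.mul_right (dvd_pow_self _ hp0.ne') _) _) hd)).resolve_left
        (not_t_dvd_unit α))
      have hat : ∀ y, a ∣ tt * y → a ∣ y := fun y ⟨c, hc⟩ => by
        obtain ⟨c', rfl⟩ := (t_prime_dvd (π := π) (x := a) (y := c) ⟨y, hc.symm⟩).resolve_left hta
        exact ⟨c', t_regular (π := π) hπ (by show tt * y = tt * (a * c'); linear_combination hc)⟩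
      have hatp : ∀ n y, a ∣ tt ^ n * y → a ∣ y := fun n => by
        induction n with
        | zero => simp
        | succ n ih => intro y hy; rw [pow_succ', mul_assoc] at hy; exact ih y (hat _ hy)
      have h2 : Ideal.span {a, tt} = Ideal.span {tt, b} := by
        obtain ⟨p, rfl⟩ : ∃ p', p = p' + 1 := ⟨p - 1, by omega⟩
        refine le_antisymm (Ideal.span_le.mpr ?_) (Ideal.span_le.mpr ?_)
        · rintro x (rfl | rfl) <;> refine Ideal.mem_span_pair.mpr ?_
          · exact ⟨(γ : N) * (tt ^ p * ee ^ q), -(α : N), by linear_combination -rel⟩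
          · exact ⟨1, 0, by ring⟩
        · rintro x (rfl | rfl) <;> refine Ideal.mem_span_pair.mpr ?_
          · exact ⟨0, 1, by ring⟩
          · refine ⟨-((α⁻¹ : Nˣ) : N), ((α⁻¹ : Nˣ) : N) * (γ : N) * (tt ^ p * ee ^ q), ?_⟩
            linear_combination -((α⁻¹ : Nˣ) : N) * rel + x * hα
      rw [len_pair_mul _ (hatp p), len_pair_pow hat, len_pair_pow hae, h2, (Ideal.span_pair_comm : Ideal.span {a, ee} = Ideal.span {ee, a})]
      push_cast
      ring
  · rw [Ideal.mem_span_pair, Submodule.mem_span_triple]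
    simp only [smul_eq_mul]
    constructor
    · rintro ⟨c, d, rfl⟩
      exact ⟨d, c, 0, by ring⟩
    · rintro ⟨r, s, w, hx⟩
      obtain ⟨w', rfl⟩ : tt ∣ w := by
        have : tt ∣ b * (w * ee) := ⟨x - r * (tt ^ p * ee ^ (q + 1)) - s * a, by linear_combination hx⟩
        have h1 := (t_prime_dvd this).resolve_left htb
        exact (t_prime_dvd h1).resolve_right not_t_dvd_e
      refine ⟨s - w' * ((α⁻¹ : Nˣ) : N) * ee, r + w' * ((α⁻¹ : Nˣ) : N) * (γ : N), t_regular (π := π) hπ ?_⟩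
      show tt * _ = tt * x
      linear_combination hx + (-tt * w' * ee * ((α⁻¹ : Nˣ) : N)) * rel + (tt * w' * ee * b) * hα

/-- The residual length when the second branch has the maximal multiplicity. -/
theorem len_residual_max (hπ : π ≠ 0) {p : ℕ} (hp' : 1 ≤ p) (α γ : Nˣ) {a b : N}
    (rel : (α : N) * b = (γ : N) * tt ^ (p - 1) - ee * a) (htb : ¬ tt ∣ b) :
    len (Ideal.span {tt ^ p, a * tt, b}) + ((p - 1 : ℕ) : ℕ∞) = (p : ℕ∞) * len (Ideal.span {tt, b}) := by
  obtain ⟨p, rfl⟩ : ∃ p', p = p' + 1 := ⟨p - 1, by omega⟩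
  rw [Nat.add_sub_cancel] at rel ⊢
  have hα : ((α⁻¹ : Nˣ) : N) * (α : N) = 1 := α.inv_mul
  rw [len_eq_add (K := Ideal.span {a, tt ^ p}) tt fun x => ?_]
  · have h1 : Ideal.span {tt ^ (p + 1), a * tt, b} ⊔ Ideal.span {tt} = Ideal.span {tt, b} := by
      refine le_antisymm (sup_le (Ideal.span_le.mpr ?_) (Ideal.span_mono (by simp))) (Ideal.span_le.mpr ?_)
      · rintro x (rfl | rfl | rfl) <;> refine Ideal.mem_span_pair.mpr ?_
        · exact ⟨tt ^ p, 0, by ring⟩
        · exact ⟨a, 0, by ring⟩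
        · exact ⟨0, 1, by ring⟩
      · rintro x (rfl | rfl)
        · exact Ideal.mem_sup_right (Ideal.mem_span_singleton_self _)
        · exact Ideal.mem_sup_left (Ideal.subset_span (by simp))
    rw [h1]
    rcases Nat.eq_zero_or_pos p with rfl | hp0
    · rw [pow_zero, len_pair_one]
      push_cast
      ring
    · have hta : ¬ tt ∣ a := fun hd => htb ((t_prime_dvd (π := π) (x := (α : N)) (y := b) (by
        rw [rel]
        exact dvd_sub (Dvd.dvd.mul_left (dvd_pow_self _ hp0.ne') _) (Dvd.dvd.mul_left hd _))).resolve_left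
        (not_t_dvd_unit α))
      have hat : ∀ y, a ∣ tt * y → a ∣ y := fun y ⟨c, hc⟩ => by
        obtain ⟨c', rfl⟩ := (t_prime_dvd (π := π) (x := a) (y := c) ⟨y, hc.symm⟩).resolve_left hta
        exact ⟨c', t_regular (π := π) hπ (by show tt * y = tt * (a * c'); linear_combination hc)⟩
      have h2 : Ideal.span {tt, b} = Ideal.span {tt, ee * a} := by
        obtain ⟨p, rfl⟩ : ∃ p', p = p' + 1 := ⟨p - 1, by omega⟩
        refine le_antisymm (Ideal.span_le.mpr ?_) (Ideal.span_le.mpr ?_)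
        · rintro x (rfl | rfl) <;> refine Ideal.mem_span_pair.mpr ?_
          · exact ⟨1, 0, by ring⟩
          · refine ⟨((α⁻¹ : Nˣ) : N) * (γ : N) * tt ^ p, -((α⁻¹ : Nˣ) : N), ?_⟩
            linear_combination -((α⁻¹ : Nˣ) : N) * rel + x * hα
        · rintro x (rfl | rfl) <;> refine Ideal.mem_span_pair.mpr ?_
          · exact ⟨1, 0, by ring⟩
          · exact ⟨(γ : N) * tt ^ p, -(α : N), by linear_combination -rel⟩
      rw [len_pair_pow hat, h2, len_pair_mul _ (fun y => t_dvd_of_dvd_e_mul), len_t_e, (Ideal.span_pair_comm : Ideal.span {a, tt} = Ideal.span {tt, a})]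
      push_cast
      ring
  · rw [Ideal.mem_span_pair, Submodule.mem_span_triple]
    simp only [smul_eq_mul]
    constructor
    · rintro ⟨c, d, rfl⟩
      exact ⟨d, c, 0, by ring⟩
    · rintro ⟨r, s, w, hx⟩
      obtain ⟨w', rfl⟩ : tt ∣ w := by
        have : tt ∣ b * w := ⟨x - r * tt ^ p - s * a, by linear_combination hx⟩
        exact (t_prime_dvd this).resolve_left htb
      refine ⟨s - w' * ((α⁻¹ : Nˣ) : N) * ee, r + w' * ((α⁻¹ : Nˣ) : N) * (γ : N), t_regular (π := π) hπ ?_⟩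
      show tt * _ = tt * x
      linear_combination hx + (-tt * w' * ((α⁻¹ : Nˣ) : N)) * rel + (tt * w' * b) * hα

theorem prod_units (hπ : π ≠ 0) {i : ℕ} (γ : Bˣ) (σ : N ≃+* N)
    (hσπ : σ (jj π) = jj (π + γ * π ^ (i + 1))) {a b : Nˣ}
    (ht : σ tt = (a : N) * tt) (he : σ ee = (b : N) * ee) :
    (a : N) * b = 1 + jj γ * (tt * ee) ^ i := by
  have h1 : σ tt * σ ee = tt * ee + jj γ * (tt * ee) ^ (i + 1) := by
    rw [← map_mul, t_mul_e, hσπ, map_add, map_mul, map_pow]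
  rw [ht, he] at h1
  refine ((t_regular (π := π) hπ).mul (e_regular hπ)) ?_
  show tt * ee * _ = tt * ee * _
  linear_combination h1

theorem fixed_branches (hπ : π ≠ 0) {j : ℕ} (hj : 1 ≤ j) (γ : Bˣ) (σ : N ≃+* N)
    (hσB : ∀ c, σ (jj c) - jj c ∈ Ideal.span {jj (π ^ j)})
    (hσπ : σ (jj π) = jj (π + γ * π ^ j)) (α β : Nˣ) (ht : σ tt = (α : N) * tt) (he : σ ee = (β : N) * ee)
    {i₁ i₂ : ℕ} (h1 : i₁ < j) (h2 : i₂ < j) (a b : N)
    (ha : (α : N) - 1 = tt ^ i₁ * ee ^ i₂ * a) (hb : (β : N) - 1 = tt ^ i₁ * ee ^ i₂ * b)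
    (hea : ¬ ee ∣ a) (htb : ¬ tt ∣ b) :
    Module.length N (N ⧸ (ArLef.fixIdeal σ).colon ({tt ^ i₁ * ee ^ i₂} : Set N)) =
      1 + ((j - i₁ : ℕ) : ℕ∞) * Module.length N (N ⧸ Ideal.span ({tt, b} : Set N)) +
        ((j - i₂ : ℕ) : ℕ∞) * Module.length N (N ⧸ Ideal.span ({ee, a} : Set N)) := by
  obtain ⟨p, rfl⟩ : ∃ p, j = i₁ + (p + 1) := ⟨j - i₁ - 1, by omega⟩
  obtain ⟨q, hq⟩ : ∃ q, i₁ + (p + 1) = i₂ + (q + 1) := ⟨i₁ + (p + 1) - i₂ - 1, by omega⟩
  have hj' : i₁ + (p + 1) = i₂ + q + 1 := by omega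
  have hab := prod_units hπ (i := i₁ + p) γ σ hσπ ht he
  have hw := monomial_regular (π := π) hπ i₁ i₂
  have rel : (α : N) * b = jj γ * (tt ^ p * ee ^ q) - a := by
    refine hw ?_
    show tt ^ i₁ * ee ^ i₂ * _ = tt ^ i₁ * ee ^ i₂ * _
    have hpow : (tt * ee) ^ (i₁ + p) = tt ^ i₁ * tt ^ p * (ee ^ i₂ * ee ^ q) := by
      rw [mul_pow, pow_add, ← pow_add ee, show i₁ + p = i₂ + q by omega]
    linear_combination hab + (-(α : N)) * hb + jj γ * hpow - ha
  have hcolon : (ArLef.fixIdeal σ).colon ({tt ^ i₁ * ee ^ i₂} : Set N) =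
      Ideal.span {tt ^ (p + 1) * ee ^ (q + 1), a * tt, b * ee} := by
    have hpow : jj (π ^ (i₁ + (p + 1))) = tt ^ i₁ * ee ^ i₂ * (tt ^ (p + 1) * ee ^ (q + 1)) := by
      rw [map_pow, ← t_mul_e, mul_pow]
      nth_rw 2 [hq]
      ring
    ext x
    rw [Submodule.mem_colon_singleton, fixIdeal_eq_span3 σ γ hσB hσπ, Submodule.mem_span_triple,
      Submodule.mem_span_triple, hpow, ht, he]
    simp only [smul_eq_mul]
    constructor
    · rintro ⟨r, s, w, h⟩
      refine ⟨r, s, w, hw ?_⟩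
      show tt ^ i₁ * ee ^ i₂ * _ = tt ^ i₁ * ee ^ i₂ * x
      linear_combination h + (-s * tt) * ha + (-w * ee) * hb
    · rintro ⟨r, s, w, rfl⟩
      exact ⟨r, s, w, by linear_combination (s * tt) * ha + (w * ee) * hb⟩
  show len _ = _
  rw [hcolon, Nat.add_sub_cancel_left, show i₁ + (p + 1) - i₂ = q + 1 by omega]
  exact len_residual hπ (Nat.succ_pos p) (Nat.succ_pos q) α (Units.map (jj : B →* N) γ) (by simpa using rel) htb hea

theorem fixed_branches_max (hπ : π ≠ 0) {j : ℕ} (γ : Bˣ) (σ : N ≃+* N)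
    (hσB : ∀ c, σ (jj c) - jj c ∈ Ideal.span {jj (π ^ j)})
    (hσπ : σ (jj π) = jj (π + γ * π ^ j)) (α β : Nˣ) (ht : σ tt = (α : N) * tt) (he : σ ee = (β : N) * ee)
    {i₁ : ℕ} (h1 : i₁ < j) (a b : N)
    (ha : (α : N) - 1 = tt ^ i₁ * ee ^ j * a) (hb : (β : N) - 1 = tt ^ i₁ * ee ^ (j - 1) * b)
    (htb : ¬ tt ∣ b) :
    Module.length N (N ⧸ (ArLef.fixIdeal σ).colon ({tt ^ i₁ * ee ^ j} : Set N)) + ((j - 1 - i₁ : ℕ) : ℕ∞) =
      ((j - i₁ : ℕ) : ℕ∞) * Module.length N (N ⧸ Ideal.span ({tt, b} : Set N)) := by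
  obtain ⟨p, rfl⟩ : ∃ p, j = i₁ + (p + 1) := ⟨j - i₁ - 1, by omega⟩
  have hab := prod_units hπ (i := i₁ + p) γ σ hσπ ht he
  rw [show i₁ + (p + 1) - 1 = i₁ + p by omega] at hb
  have rel : (α : N) * b = jj γ * tt ^ p - ee * a := by
    refine monomial_regular (π := π) hπ i₁ (i₁ + p) ?_
    show tt ^ i₁ * ee ^ (i₁ + p) * _ = tt ^ i₁ * ee ^ (i₁ + p) * _
    have hpow : (tt * ee) ^ (i₁ + p) = tt ^ i₁ * tt ^ p * ee ^ (i₁ + p) := by rw [mul_pow, pow_add]
    linear_combination hab + (-(α : N)) * hb + jj γ * hpow - ha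
  have hw := monomial_regular (π := π) hπ i₁ (i₁ + (p + 1))
  have hcolon : (ArLef.fixIdeal σ).colon ({tt ^ i₁ * ee ^ (i₁ + (p + 1))} : Set N) =
      Ideal.span {tt ^ (p + 1), a * tt, b} := by
    have hpow : jj (π ^ (i₁ + (p + 1))) = tt ^ i₁ * ee ^ (i₁ + (p + 1)) * tt ^ (p + 1) := by
      rw [map_pow, ← t_mul_e, mul_pow]
      ring
    ext x
    rw [Submodule.mem_colon_singleton, fixIdeal_eq_span3 σ γ hσB hσπ, Submodule.mem_span_triple,
      Submodule.mem_span_triple, hpow, ht, he]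
    simp only [smul_eq_mul]
    constructor
    · rintro ⟨r, s, w, h⟩
      refine ⟨r, s, w, hw ?_⟩
      show tt ^ i₁ * ee ^ (i₁ + (p + 1)) * _ = tt ^ i₁ * ee ^ (i₁ + (p + 1)) * x
      linear_combination h + (-s * tt) * ha + (-w * ee) * hb
    · rintro ⟨r, s, w, rfl⟩
      exact ⟨r, s, w, by linear_combination (s * tt) * ha + (w * ee) * hb⟩
  show len _ + _ = _
  rw [hcolon, Nat.add_sub_cancel_left, show i₁ + (p + 1) - 1 - i₁ = p + 1 - 1 by omega]
  exact len_residual_max hπ (Nat.succ_pos p) α (Units.map (jj : B →* N) γ) (by simpa using rel) htb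

end Groth.Agent.ArLefNode
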