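import Groth.Prelude.Def_W4c2arithlefschetzNode
import Mathlib.RingTheory.Filtration
import Mathlib.RingTheory.Length
import Mathlib.RingTheory.LocalRing.MaximalIdeal.Basic
import Mathlib.RingTheory.Ideal.Colon
import Mathlib.RingTheory.SimpleModule.Basic
import Mathlib.Tactic.Ring
import Mathlib.Tactic.LinearCombination

/-!
# Fixed-point ideals, lengths of quotients
-/

set_option autoImplicit false

universe u v

namespace Groth.Agent.ArLefNode

variable {A : Type u} [CommRing A]

theorem sub_mem_fixIdeal (σ : A → A) (r : A) : σ r - r ∈ ArLef.fixIdeal σ :=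
  Ideal.subset_span ⟨r, rfl⟩

section Local

variable [IsNoetherianRing A] [IsLocalRing A]

theorem mem_of_forall_mem_sup {I : Ideal A} {x : A}
    (h : ∀ n : ℕ, x ∈ I ⊔ IsLocalRing.maximalIdeal A ^ n) : x ∈ I := by
  rw [← Submodule.Quotient.mk_eq_zero I]
  refine (Submodule.eq_bot_iff _).mp (Ideal.iInf_pow_smul_eq_bot_of_isLocalRing (M := A ⧸ I)
    (IsLocalRing.maximalIdeal A) (IsLocalRing.maximalIdeal.isMaximal A).ne_top) _ ?_
  rw [Submodule.mem_iInf]
  intro n
  obtain ⟨a, ha, b, hb, rfl⟩ := Submodule.mem_sup.mp (h n)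
  rw [Submodule.Quotient.mk_add, (Submodule.Quotient.mk_eq_zero I).mpr ha, zero_add]
  have : (Submodule.Quotient.mk b : A ⧸ I) = b • Submodule.Quotient.mk 1 := by
    rw [← Submodule.Quotient.mk_smul, smul_eq_mul, mul_one]
  rw [this]
  exact Submodule.smul_mem_smul hb trivial

/-- A subring containing generators of the maximal ideal and surjecting on the residue field is dense. -/
theorem exists_mem_sub_mem_pow (S : Subring A) (G : Set A) (hG : G ⊆ S)
    (hm : IsLocalRing.maximalIdeal A = Ideal.span G)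
    (hres : ∀ r, ∃ b ∈ S, r - b ∈ IsLocalRing.maximalIdeal A) (n : ℕ) (r : A) :
    ∃ p ∈ S, r - p ∈ IsLocalRing.maximalIdeal A ^ n := by
  induction n generalizing r with
  | zero => exact ⟨0, S.zero_mem, by simp⟩
  | succ n ih =>
    have key : ∀ x ∈ Ideal.span G, ∀ c : A, ∃ q ∈ S, c * x - q ∈ IsLocalRing.maximalIdeal A ^ (n + 1) := by
      intro x hx
      induction hx using Submodule.span_induction with
      | mem g hg =>
        intro c
        obtain ⟨q, hq, hcq⟩ := ih c
        refine ⟨q * g, S.mul_mem hq (hG hg), ?_⟩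
        rw [← sub_mul, pow_succ]
        exact Ideal.mul_mem_mul hcq (hm ▸ Ideal.subset_span hg)
      | zero => intro c; exact ⟨0, S.zero_mem, by simp⟩
      | add a b _ _ ha hb =>
        intro c
        obtain ⟨q, hq, h1⟩ := ha c
        obtain ⟨q', hq', h2⟩ := hb c
        refine ⟨q + q', S.add_mem hq hq', ?_⟩
        rw [show c * (a + b) - (q + q') = (c * a - q) + (c * b - q') by ring]
        exact Ideal.add_mem _ h1 h2
      | smul d a _ ha => intro c; rw [smul_eq_mul, ← mul_assoc]; exact ha _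
    obtain ⟨b, hb, hrb⟩ := hres r
    obtain ⟨q, hq, h⟩ := key (r - b) (hm ▸ hrb) 1
    exact ⟨b + q, S.add_mem hb hq, by rwa [one_mul, sub_sub] at h⟩

theorem fixIdeal_le (σ : A ≃+* A) {I : Ideal A} {C G : Set A}
    (hm : IsLocalRing.maximalIdeal A = Ideal.span G)
    (hres : ∀ r, ∃ b ∈ C, r - b ∈ IsLocalRing.maximalIdeal A)
    (hC : ∀ c ∈ C, σ c - c ∈ I) (hG : ∀ g ∈ G, σ g - g ∈ I) : ArLef.fixIdeal σ ≤ I := by
  let S : Subring A :=
    { carrier := {r | σ r - r ∈ I}
      zero_mem' := by simp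
      one_mem' := by simp
      add_mem' := fun {a b} ha hb => by
        show σ (a + b) - (a + b) ∈ I
        rw [map_add, show σ a + σ b - (a + b) = (σ a - a) + (σ b - b) by ring]
        exact I.add_mem ha hb
      neg_mem' := fun {a} ha => by
        show σ (-a) - -a ∈ I
        rw [map_neg, show -σ a - -a = -(σ a - a) by ring]
        exact I.neg_mem ha
      mul_mem' := fun {a b} ha hb => by
        show σ (a * b) - a * b ∈ I
        rw [map_mul, show σ a * σ b - a * b = σ a * (σ b - b) + b * (σ a - a) by ring]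
        exact I.add_mem (I.mul_mem_left _ hb) (I.mul_mem_left _ ha) }
  refine Ideal.span_le.mpr ?_
  rintro _ ⟨r, rfl⟩
  refine mem_of_forall_mem_sup fun n => ?_
  obtain ⟨q, hq, hrq⟩ := exists_mem_sub_mem_pow S G hG hm
    (fun x => (hres x).imp fun b hb => ⟨hC b hb.1, hb.2⟩) n r
  have hmax : (IsLocalRing.maximalIdeal A).map (σ : A →+* A) ≤ IsLocalRing.maximalIdeal A :=
    Ideal.map_le_iff_le_comap.mpr fun x hx => by
      rw [Ideal.mem_comap, IsLocalRing.mem_maximalIdeal]
      exact fun h => hx (by simpa using h.map (σ.symm : A →+* A))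
  have h1 : σ (r - q) ∈ IsLocalRing.maximalIdeal A ^ n := by
    have h := Ideal.mem_map_of_mem (σ : A →+* A) hrq
    rw [Ideal.map_pow] at h
    exact Ideal.pow_right_mono hmax n h
  show σ r - r ∈ _
  rw [show σ r - r = (σ q - q) + (σ (r - q) - (r - q)) by rw [map_sub]; ring]
  exact Submodule.add_mem_sup hq (Ideal.sub_mem _ h1 hrq)

end Local

theorem mem_of_unit_mul_mem {u x : A} (hu : IsUnit u) (I : Ideal A) (h : u * x ∈ I) : x ∈ I := by
  obtain ⟨v, rfl⟩ := hu
  simpa [← mul_assoc] using I.mul_mem_left ((v⁻¹ : Aˣ) : A) h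

/-! ### lengths -/

/-- `length (A ⧸ I)` -/
noncomputable abbrev len (I : Ideal A) : ℕ∞ := Module.length A (A ⧸ I)

theorem len_maximal {m : Ideal A} (h : m.IsMaximal) : len m = 1 := by
  haveI : IsSimpleModule A (A ⧸ m) := isSimpleModule_iff_isCoatom.mpr h.out
  exact Module.length_eq_one A (A ⧸ m)

/-- `0 → A/(J : t) → A/J → A/(J + (t)) → 0` -/
theorem len_eq_add {J K : Ideal A} (t : A) (hK : ∀ x, x ∈ K ↔ t * x ∈ J) :
    len J = len K + len (J ⊔ Ideal.span {t}) := by
  have hKJ : K ≤ Submodule.comap (LinearMap.lsmul A A t) J := fun x hx => (hK x).mp hx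
  let φ : (A ⧸ K) →ₗ[A] (A ⧸ J) := Submodule.mapQ K J (LinearMap.lsmul A A t) hKJ
  let ψ : (A ⧸ J) →ₗ[A] (A ⧸ (J ⊔ Ideal.span {t})) := Submodule.factor le_sup_left
  refine Module.length_eq_add_of_exact φ ψ ?_ (Submodule.factor_surjective _) ?_
  · rw [injective_iff_map_eq_zero]
    intro z hz
    obtain ⟨z, rfl⟩ := Submodule.Quotient.mk_surjective K z
    rw [Submodule.mapQ_apply, Submodule.Quotient.mk_eq_zero] at hz
    exact (Submodule.Quotient.mk_eq_zero K).mpr ((hK z).mpr hz)
  · intro z
    obtain ⟨z, rfl⟩ := Submodule.Quotient.mk_surjective J z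
    constructor
    · intro hz
      obtain ⟨a, ha, b, hb, rfl⟩ := Submodule.mem_sup.mp ((Submodule.Quotient.mk_eq_zero _).mp hz)
      obtain ⟨c, rfl⟩ := Ideal.mem_span_singleton'.mp hb
      refine ⟨Submodule.Quotient.mk c, ?_⟩
      rw [Submodule.mapQ_apply, Submodule.Quotient.eq, LinearMap.lsmul_apply, smul_eq_mul,
        show t * c - (a + c * t) = -a by ring]
      exact J.neg_mem ha
    · rintro ⟨w, hw⟩
      obtain ⟨w, rfl⟩ := Submodule.Quotient.mk_surjective K w
      rw [← hw]
      exact (Submodule.Quotient.mk_eq_zero _).mpr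
        (Ideal.mem_sup_right (Ideal.mem_span_singleton'.mpr ⟨w, mul_comm w t⟩))

/-- Additivity of `len (x, a b)` in the second argument. -/
theorem len_pair_mul {x a : A} (b : A) (ha : ∀ y, x ∣ a * y → x ∣ y) :
    len (Ideal.span {x, a * b}) = len (Ideal.span {x, a}) + len (Ideal.span {x, b}) := by
  rw [len_eq_add (J := Ideal.span {x, a * b}) (K := Ideal.span {x, b}) a fun y => ?_, add_comm]
  · congr 2
    refine le_antisymm (sup_le (Ideal.span_le.mpr ?_) (Ideal.span_mono (by simp))) (Ideal.span_le.mpr ?_)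
    · rintro z (rfl | rfl)
      · exact Ideal.subset_span (by simp)
      · exact Ideal.mul_mem_right _ _ (Ideal.subset_span (by simp))
    · rintro z (rfl | rfl)
      · exact Ideal.mem_sup_left (Ideal.subset_span (by simp))
      · exact Ideal.mem_sup_right (Ideal.mem_span_singleton_self _)
  · rw [Ideal.mem_span_pair, Ideal.mem_span_pair]
    constructor
    · rintro ⟨c, d, rfl⟩
      exact ⟨a * c, d, by ring⟩
    · rintro ⟨c, d, h⟩
      obtain ⟨e, he⟩ := ha (y - d * b) ⟨c, by linear_combination -h⟩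
      exact ⟨e, d, by linear_combination -he⟩

theorem len_pair_one (x : A) : len (Ideal.span {x, 1}) = 0 := by
  rw [len, Ideal.eq_top_of_isUnit_mem (Ideal.span {x, 1}) (Ideal.subset_span (by simp)) isUnit_one]
  exact Module.length_eq_zero

theorem len_pair_pow {x a : A} (ha : ∀ y, x ∣ a * y → x ∣ y) (n : ℕ) :
    len (Ideal.span {x, a ^ n}) = (n : ℕ∞) * len (Ideal.span {x, a}) := by
  induction n with
  | zero => rw [pow_zero, len_pair_one, Nat.cast_zero, zero_mul]
  | succ n ih => rw [pow_succ', len_pair_mul _ ha, ih, Nat.cast_succ, add_mul, one_mul, add_comm]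

/-- length over a quotient ring -/
theorem len_eq_of_surjective {A' : Type v} [CommRing A'] (φ : A →+* A') (hφ : Function.Surjective φ)
    {I : Ideal A} {I' : Ideal A'} (h : I = I'.comap φ) :
    len I = len I' := by
  let _ : Algebra A A' := φ.toAlgebra
  haveI : IsScalarTower A A' (A' ⧸ I') := IsScalarTower.of_algebraMap_smul fun a x => by
    obtain ⟨x, rfl⟩ := Ideal.Quotient.mk_surjective x
    rfl
  rw [len, len, ← Module.length_eq_of_surjective (R := A') (S := A) (M := A' ⧸ I') hφ]
  refine LinearEquiv.length_eq (LinearEquiv.ofBijective (Submodule.mapQ I (I'.restrictScalars A)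
    (Algebra.linearMap A A') (fun x hx => by rw [h] at hx; exact hx)) ⟨?_, ?_⟩ ≪≫ₗ
      Submodule.Quotient.restrictScalarsEquiv A I')
  · rw [injective_iff_map_eq_zero]
    intro z hz
    obtain ⟨z, rfl⟩ := Submodule.Quotient.mk_surjective I z
    rw [Submodule.mapQ_apply, Submodule.Quotient.mk_eq_zero] at hz
    exact (Submodule.Quotient.mk_eq_zero I).mpr (h ▸ hz)
  · intro z
    obtain ⟨z, rfl⟩ := Submodule.Quotient.mk_surjective _ z
    obtain ⟨y, rfl⟩ := hφ z
    exact ⟨Submodule.Quotient.mk y, rfl⟩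

end Groth.Agent.ArLefNode
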