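import Groth.Agent.ArLefNode.Fixed

/-!
# The node of a curve over a field
-/

set_option autoImplicit false

universe u

noncomputable section

namespace Groth.Agent.ArLefNode

theorem nodal_curve_count (k : Type u) [Field k]
    (σ : ArLef.NodeAlg k 0 ≃ₐ[k] ArLef.NodeAlg k 0) (α β : (ArLef.NodeAlg k 0)ˣ)
    (ht : σ (ArLef.NodeAlg.t (0 : k)) = (α : ArLef.NodeAlg k 0) * ArLef.NodeAlg.t (0 : k))
    (he : σ (ArLef.NodeAlg.e (0 : k)) = (β : ArLef.NodeAlg k 0) * ArLef.NodeAlg.e (0 : k)) :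
    len (ArLef.fixIdeal σ) + 1 =
      len (ArLef.fixIdeal σ ⊔ Ideal.span ({ArLef.NodeAlg.t (0 : k)} : Set (ArLef.NodeAlg k 0))) +
        len (ArLef.fixIdeal σ ⊔ Ideal.span ({ArLef.NodeAlg.e (0 : k)} : Set (ArLef.NodeAlg k 0))) := by
  haveI : (Ideal.span {(0 : k)}).IsMaximal := isMaximal_span_zero k
  set t := ArLef.NodeAlg.t (0 : k)
  set e := ArLef.NodeAlg.e (0 : k)
  set I := ArLef.fixIdeal σ with hI
  have hte : t * e = 0 := by rw [t_mul_e, map_zero]
  have hIle : I ≤ Ideal.span {t, e} := by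
    refine fixIdeal_le_node σ.toRingEquiv (fun c => ?_) ?_ ?_
    · show σ (algebraMap k _ c) - algebraMap k _ c ∈ _
      rw [AlgEquiv.commutes, sub_self]
      exact Ideal.zero_mem _
    · show σ t - t ∈ _
      rw [ht]
      exact Ideal.mem_span_pair.mpr ⟨(α : _) - 1, 0, by ring⟩
    · show σ e - e ∈ _
      rw [he]
      exact Ideal.mem_span_pair.mpr ⟨0, (β : _) - 1, by ring⟩
  have hIeq : I = Ideal.span {((α : ArLef.NodeAlg k 0) - 1) * t, ((β : ArLef.NodeAlg k 0) - 1) * e} := by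
    refine le_antisymm (fixIdeal_le_node σ.toRingEquiv (fun c => ?_) ?_ ?_) (Ideal.span_le.mpr ?_)
    · show σ (algebraMap k _ c) - algebraMap k _ c ∈ _
      rw [AlgEquiv.commutes, sub_self]
      exact Ideal.zero_mem _
    · show σ t - t ∈ _
      rw [ht]
      exact Ideal.mem_span_pair.mpr ⟨1, 0, by ring⟩
    · show σ e - e ∈ _
      rw [he]
      exact Ideal.mem_span_pair.mpr ⟨0, 1, by ring⟩
    · rintro x (rfl | rfl)
      · have := sub_mem_fixIdeal σ t
        rwa [ht, show (α : ArLef.NodeAlg k 0) * t - t = ((α : ArLef.NodeAlg k 0) - 1) * t by ring] at this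
      · have := sub_mem_fixIdeal σ e
        rwa [he, show (β : ArLef.NodeAlg k 0) * e - e = ((β : ArLef.NodeAlg k 0) - 1) * e by ring] at this
  let K : Ideal (ArLef.NodeAlg k 0) :=
    { carrier := {x | t * x ∈ I}
      zero_mem' := by simp
      add_mem' := fun {x y} hx hy => by
        show t * (x + y) ∈ I
        rw [mul_add]
        exact I.add_mem hx hy
      smul_mem' := fun c x hx => by
        show t * (c * x) ∈ I
        rw [mul_left_comm]
        exact I.mul_mem_left c hx }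
  have hKe : ∀ x, x ∈ K ↔ t * x ∈ I ⊔ Ideal.span {e} := fun x => by
    refine ⟨fun h => Ideal.mem_sup_left h, fun h => ?_⟩
    obtain ⟨i, hi, y, hy, hxy⟩ := Submodule.mem_sup.mp h
    obtain ⟨c, rfl⟩ := Ideal.mem_span_singleton'.mp hy
    rw [hIeq] at hi
    show t * x ∈ I
    rw [hIeq]
    obtain ⟨r, s, rfl⟩ := Ideal.mem_span_pair.mp hi
    obtain ⟨w, hw⟩ := e_dvd_of_dvd_t_mul (π := (0 : k)) (y := x - r * ((α : ArLef.NodeAlg k 0) - 1))
      ⟨s * ((β : ArLef.NodeAlg k 0) - 1) + c, by linear_combination -hxy⟩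
    exact Ideal.mem_span_pair.mpr ⟨r, 0, by linear_combination (-t) * hw - w * hte⟩
  have htop : (I ⊔ Ideal.span {e}) ⊔ Ideal.span {t} = Ideal.span {t, e} := by
    refine le_antisymm (sup_le (sup_le hIle (Ideal.span_mono (by simp))) (Ideal.span_mono (by simp)))
      (Ideal.span_le.mpr ?_)
    rintro x (rfl | rfl)
    · exact Ideal.mem_sup_right (Ideal.mem_span_singleton_self _)
    · exact Ideal.mem_sup_left (Ideal.mem_sup_right (Ideal.mem_span_singleton_self _))
  rw [len_eq_add (J := I) (K := K) t (fun x => Iff.rfl), len_eq_add (J := I ⊔ Ideal.span {e}) (K := K) t hKe,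
    htop, len_t_e]
  ring

end Groth.Agent.ArLefNode
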