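import Groth.Agent.ArLefNode.General
import Mathlib.RingTheory.MvPowerSeries.Inverse
import Mathlib.RingTheory.MvPowerSeries.Equiv
import Mathlib.RingTheory.PowerSeries.Inverse
import Mathlib.RingTheory.DiscreteValuationRing.Basic
import Mathlib.Data.Finsupp.Antidiagonal
import Mathlib.Tactic.FinCases

/-!
# The formal double point `B[[t, e]]/(t e - π)`: branches, regularity, the maximal ideal
-/

set_option autoImplicit false

universe u

noncomputable section

open Finsupp MvPowerSeries

namespace Groth.Agent.ArLefNode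

variable {B : Type u} [CommRing B]

/-- Restriction of a series in two variables to a branch, coefficients modulo `(π)`. -/
def branchFun (π : B) (i : Fin 2) : MvPowerSeries (Fin 2) B →+* PowerSeries (B ⧸ Ideal.span {π}) where
  toFun f := PowerSeries.mk fun n => Ideal.Quotient.mk _ (MvPowerSeries.coeff (Finsupp.single i n) f)
  map_one' := PowerSeries.ext fun n => by
    classical
    rw [PowerSeries.coeff_mk, MvPowerSeries.coeff_one, PowerSeries.coeff_one]
    rcases eq_or_ne n 0 with rfl | h
    · simp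
    · simp [h]
  map_zero' := PowerSeries.ext fun n => by simp
  map_add' f g := PowerSeries.ext fun n => by simp
  map_mul' f g := PowerSeries.ext fun n => by
    classical
    rw [PowerSeries.coeff_mk, MvPowerSeries.coeff_mul, PowerSeries.coeff_mul, Finsupp.antidiagonal_single,
      Finset.sum_map, map_sum]
    simp

theorem coeff_branchFun (π : B) (i : Fin 2) (f : MvPowerSeries (Fin 2) B) (n : ℕ) :
    PowerSeries.coeff n (branchFun π i f) = Ideal.Quotient.mk _ (MvPowerSeries.coeff (Finsupp.single i n) f) := by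
  show PowerSeries.coeff n (PowerSeries.mk fun n => Ideal.Quotient.mk (Ideal.span {π}) (MvPowerSeries.coeff (Finsupp.single i n) f)) = _
  rw [PowerSeries.coeff_mk]

theorem branchFun_X (π : B) {i j : Fin 2} (h : i ≠ j) : branchFun π i (X j) = 0 := by
  classical
  ext n
  rw [coeff_branchFun, MvPowerSeries.coeff_X, if_neg, map_zero, map_zero]
  intro e
  have := congrArg (fun d : Fin 2 →₀ ℕ => d j) e
  simp [h] at this

theorem branchFun_X_self (π : B) (i : Fin 2) : branchFun π i (X i) = PowerSeries.X := by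
  classical
  ext n
  rw [coeff_branchFun, MvPowerSeries.coeff_X, PowerSeries.coeff_X]
  rcases eq_or_ne n 1 with rfl | h
  · simp
  · simp [Finsupp.single_eq_single_iff, h]

theorem branchFun_C (π b : B) (i : Fin 2) :
    branchFun π i (MvPowerSeries.C b) = PowerSeries.C (Ideal.Quotient.mk _ b) := by
  classical
  ext n
  rw [coeff_branchFun, MvPowerSeries.coeff_C, PowerSeries.coeff_C]
  rcases eq_or_ne n 0 with rfl | h
  · simp
  · simp [h]

theorem branchFun_surjective (π : B) (i : Fin 2) : Function.Surjective (branchFun π i) := by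
  intro g
  choose c hc using fun n => Ideal.Quotient.mk_surjective (PowerSeries.coeff n g)
  let f : MvPowerSeries (Fin 2) B := fun d => c (d i)
  refine ⟨f, PowerSeries.ext fun n => ?_⟩
  rw [coeff_branchFun]
  show Ideal.Quotient.mk _ (c (Finsupp.single i n i)) = _
  rw [Finsupp.single_eq_same, hc]

theorem fin2_cases {i j : Fin 2} (h : i ≠ j) (a : Fin 2) : a = i ∨ a = j := by
  fin_cases i <;> fin_cases j <;> fin_cases a <;> simp_all

theorem exists_of_branchFun_eq_zero (π : B) {i j : Fin 2} (h : i ≠ j) {f : MvPowerSeries (Fin 2) B}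
    (hf : branchFun π i f = 0) : ∃ g g', f = X j * g + MvPowerSeries.C π * g' := by
  classical
  have hdiv : ∀ d : Fin 2 →₀ ℕ, ∃ c : B, d j = 0 → MvPowerSeries.coeff d f = π * c := by
    intro d
    by_cases hd : d j = 0
    · have e : d = Finsupp.single i (d i) := by
        ext a
        rcases fin2_cases h a with rfl | rfl <;> simp [h, hd]
      have h0 := congrArg (PowerSeries.coeff (d i)) hf
      rw [coeff_branchFun, map_zero, Ideal.Quotient.eq_zero_iff_mem, Ideal.mem_span_singleton, ← e] at h0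
      obtain ⟨c, hc⟩ := h0
      exact ⟨c, fun _ => hc⟩
    · exact ⟨0, fun h => absurd h hd⟩
  choose c hc using hdiv
  let g : MvPowerSeries (Fin 2) B := fun d => MvPowerSeries.coeff (d + Finsupp.single j 1) f
  let g' : MvPowerSeries (Fin 2) B := fun d => if d j = 0 then c d else 0
  have hg : ∀ d, MvPowerSeries.coeff d g = MvPowerSeries.coeff (d + Finsupp.single j 1) f := fun d => rfl
  have hg' : ∀ d, MvPowerSeries.coeff d g' = if d j = 0 then c d else 0 := fun d => rfl
  refine ⟨g, g', MvPowerSeries.ext fun d => ?_⟩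
  rw [map_add, MvPowerSeries.coeff_C_mul, MvPowerSeries.X, MvPowerSeries.coeff_monomial_mul, hg', hg]
  by_cases hd : d j = 0
  · rw [if_neg, if_pos hd, zero_add, hc d hd]
    intro hle
    have := hle j
    simp [hd] at this
  · have hle : Finsupp.single j 1 ≤ d := by
      intro a
      rcases fin2_cases h a with rfl | rfl
      · simp [h]
      · simp; omega
    rw [if_pos hle, if_neg hd, mul_zero, add_zero, one_mul, tsub_add_cancel_of_le hle]

variable (π : B)

theorem X_mul_X {i j : Fin 2} (h : i ≠ j) :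
    (X i * X j : MvPowerSeries (Fin 2) B) = X 0 * X 1 := by
  fin_cases i <;> fin_cases j <;> first | exact absurd rfl h | rfl | exact mul_comm _ _

/-- The branch map on the double point. -/
def branch (i : Fin 2) : ArLef.NodeAlg B π →+* PowerSeries (B ⧸ Ideal.span {π}) :=
  Ideal.Quotient.lift _ (branchFun π i) fun f hf => by
    obtain ⟨g, rfl⟩ := Ideal.mem_span_singleton'.mp hf
    rw [map_mul, map_sub, map_mul, branchFun_C,
      Ideal.Quotient.eq_zero_iff_mem.mpr (Ideal.mem_span_singleton_self π), map_zero]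
    rcases eq_or_ne i 0 with rfl | h
    · rw [branchFun_X π (show (0 : Fin 2) ≠ 1 by decide)]; simp
    · rw [branchFun_X π h]; simp

theorem branch_mk (i : Fin 2) (f : MvPowerSeries (Fin 2) B) :
    branch π i (Ideal.Quotient.mk _ f) = branchFun π i f := rfl

theorem branch_surjective (i : Fin 2) : Function.Surjective (branch π i) := fun g => by
  obtain ⟨f, rfl⟩ := branchFun_surjective π i g
  exact ⟨Ideal.Quotient.mk _ f, rfl⟩

local notation "N" => ArLef.NodeAlg B π
local notation "tt" => ArLef.NodeAlg.t π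
local notation "ee" => ArLef.NodeAlg.e π
local notation "jj" => algebraMap B (ArLef.NodeAlg B π)

theorem algebraMap_eq (b : B) : jj b = Ideal.Quotient.mk _ (MvPowerSeries.C b) := rfl

theorem t_mul_e : tt * ee = jj π := by
  rw [algebraMap_eq, ← map_mul, Ideal.Quotient.eq]
  exact Ideal.mem_span_singleton_self _

/-- `mk (X i)` -/
abbrev var (i : Fin 2) : N := Ideal.Quotient.mk _ (X i)

theorem var_mul_var {i j : Fin 2} (h : i ≠ j) : var π i * var π j = jj π := by
  rw [← t_mul_e, ← map_mul, X_mul_X h, map_mul]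

theorem branch_var {i j : Fin 2} (h : i ≠ j) : branch π i (var π j) = 0 := branchFun_X π h

theorem branch_var_self (i : Fin 2) : branch π i (var π i) = PowerSeries.X := branchFun_X_self π i

theorem branch_eq_zero_iff {i j : Fin 2} (h : i ≠ j) (x : N) : branch π i x = 0 ↔ var π j ∣ x := by
  constructor
  · intro hx
    obtain ⟨f, rfl⟩ := Ideal.Quotient.mk_surjective x
    obtain ⟨g, g', rfl⟩ := exists_of_branchFun_eq_zero π h hx
    refine ⟨Ideal.Quotient.mk _ g + var π i * Ideal.Quotient.mk _ g', ?_⟩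
    rw [map_add, map_mul, map_mul, ← algebraMap_eq, ← var_mul_var π h, mul_add]
    ring
  · rintro ⟨c, rfl⟩
    rw [map_mul, branch_var π h, zero_mul]

theorem branch_t : branch π 1 tt = 0 := branch_var π (by decide : (1 : Fin 2) ≠ 0)
theorem branch_e : branch π 0 ee = 0 := branch_var π (by decide : (0 : Fin 2) ≠ 1)
theorem branch_one_e : branch π 1 ee = PowerSeries.X := branch_var_self π 1
theorem branch_zero_t : branch π 0 tt = PowerSeries.X := branch_var_self π 0

theorem t_dvd_iff (x : N) : tt ∣ x ↔ branch π 1 x = 0 :=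
  (branch_eq_zero_iff π (by decide : (1 : Fin 2) ≠ 0) x).symm

theorem e_dvd_iff (x : N) : ee ∣ x ↔ branch π 0 x = 0 :=
  (branch_eq_zero_iff π (by decide : (0 : Fin 2) ≠ 1) x).symm

section Regular

variable [IsDomain B] {π}

theorem var_regular (hπ : π ≠ 0) {i j : Fin 2} (h : i ≠ j) {x : N} (hx : var π i * x = 0) : x = 0 := by
  classical
  obtain ⟨f, rfl⟩ := Ideal.Quotient.mk_surjective x
  rw [← map_mul, Ideal.Quotient.eq_zero_iff_mem, Ideal.mem_span_singleton'] at hx
  obtain ⟨g, hg⟩ := hx
  rw [← X_mul_X h] at hg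
  have hXg : X i ∣ g := by
    have h1 : X i ∣ MvPowerSeries.C π * g := ⟨X j * g - f, by linear_combination -hg⟩
    rw [MvPowerSeries.X_dvd_iff] at h1 ⊢
    intro m hm
    have h2 := h1 m hm
    rw [MvPowerSeries.coeff_C_mul, mul_eq_zero] at h2
    exact h2.resolve_left hπ
  obtain ⟨g', rfl⟩ := hXg
  rw [Ideal.Quotient.eq_zero_iff_mem, Ideal.mem_span_singleton']
  refine ⟨g', ?_⟩
  rw [← X_mul_X h]
  have hX : (X i : MvPowerSeries (Fin 2) B) ≠ 0 := fun e => by
    have := congrArg (MvPowerSeries.coeff (Finsupp.single i 1)) e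
    simp [MvPowerSeries.coeff_X] at this
  refine mul_left_cancel₀ hX ?_
  linear_combination hg

theorem t_regular (hπ : π ≠ 0) : IsLeftRegular tt := fun x y hxy => by
  have := var_regular hπ (by decide : (0 : Fin 2) ≠ 1) (x := x - y)
    (by show tt * (x - y) = 0; rw [mul_sub]; exact sub_eq_zero.mpr hxy)
  exact sub_eq_zero.mp this

theorem e_regular (hπ : π ≠ 0) : IsLeftRegular ee := fun x y hxy => by
  have := var_regular hπ (by decide : (1 : Fin 2) ≠ 0) (x := x - y)
    (by show ee * (x - y) = 0; rw [mul_sub]; exact sub_eq_zero.mpr hxy)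
  exact sub_eq_zero.mp this

theorem jj_regular (hπ : π ≠ 0) : IsLeftRegular (jj π) :=
  t_mul_e π ▸ (t_regular hπ).mul (e_regular hπ)

theorem monomial_regular (hπ : π ≠ 0) (a b : ℕ) : IsLeftRegular (tt ^ a * ee ^ b) :=
  ((t_regular hπ).pow a).mul ((e_regular hπ).pow b)

end Regular

section Prime

variable {π} [hp : (Ideal.span {π}).IsMaximal]

include hp

theorem isDomain_quot : IsDomain (B ⧸ Ideal.span {π}) := inferInstance

theorem t_prime_dvd {x y : N} (h : tt ∣ x * y) : tt ∣ x ∨ tt ∣ y := by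
  simp only [t_dvd_iff, map_mul, mul_eq_zero] at h ⊢
  exact h

theorem e_prime_dvd {x y : N} (h : ee ∣ x * y) : ee ∣ x ∨ ee ∣ y := by
  simp only [e_dvd_iff, map_mul, mul_eq_zero] at h ⊢
  exact h

theorem not_t_dvd_e : ¬ tt ∣ ee := by
  rw [t_dvd_iff, branch_one_e]
  exact PowerSeries.X_ne_zero

theorem not_e_dvd_t : ¬ ee ∣ tt := by
  rw [e_dvd_iff, branch_zero_t]
  exact PowerSeries.X_ne_zero

theorem t_dvd_of_dvd_e_mul {y : N} (h : tt ∣ ee * y) : tt ∣ y := (t_prime_dvd h).resolve_left not_t_dvd_e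

theorem e_dvd_of_dvd_t_mul {y : N} (h : ee ∣ tt * y) : ee ∣ y := (e_prime_dvd h).resolve_left not_e_dvd_t

theorem t_not_unit : ¬ IsUnit tt := fun h => not_t_dvd_e (h.dvd)

theorem e_not_unit : ¬ IsUnit ee := fun h => not_e_dvd_t (h.dvd)

theorem not_t_dvd_unit (u : Nˣ) : ¬ tt ∣ (u : N) := fun h => t_not_unit (isUnit_of_dvd_unit h u.isUnit)

theorem not_e_dvd_unit (u : Nˣ) : ¬ ee ∣ (u : N) := fun h => e_not_unit (isUnit_of_dvd_unit h u.isUnit)

variable [IsLocalRing B]

theorem maximalIdeal_base : IsLocalRing.maximalIdeal B = Ideal.span {π} :=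
  (IsLocalRing.eq_maximalIdeal hp).symm

theorem exists_sub_mem (r : N) : ∃ b : B, r - jj b ∈ Ideal.span {tt, ee} := by
  obtain ⟨f, rfl⟩ := Ideal.Quotient.mk_surjective r
  refine ⟨MvPowerSeries.constantCoeff f, ?_⟩
  have h1 : PowerSeries.constantCoeff
      (branch π 1 (Ideal.Quotient.mk _ f - jj (MvPowerSeries.constantCoeff f))) = 0 := by
    rw [map_sub, algebraMap_eq, branch_mk, branch_mk, map_sub, branchFun_C, PowerSeries.constantCoeff_C,
      ← PowerSeries.coeff_zero_eq_constantCoeff_apply, coeff_branchFun, Finsupp.single_zero,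
      MvPowerSeries.coeff_zero_eq_constantCoeff_apply, sub_self]
  obtain ⟨g, hg⟩ := PowerSeries.X_dvd_iff.mpr h1
  obtain ⟨g, rfl⟩ := branch_surjective π 1 g
  rw [← branch_one_e, ← map_mul, ← sub_eq_zero, ← map_sub, ← t_dvd_iff] at hg
  obtain ⟨c, hc⟩ := hg
  refine Ideal.mem_span_pair.mpr ⟨c, g, ?_⟩
  linear_combination -hc

theorem span_ne_top : Ideal.span {tt, ee} ≠ ⊤ := by
  intro h
  obtain ⟨a, b, hab⟩ := Ideal.mem_span_pair.mp ((Ideal.eq_top_iff_one _).mp h)
  have := congrArg (fun x => PowerSeries.constantCoeff (branch π 1 x)) hab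
  simp [branch_t, branch_one_e] at this

instance isLocalRing_nodeAlg : IsLocalRing N :=
  haveI : Nontrivial N := ⟨⟨0, 1, fun h => span_ne_top (π := π)
    ((Ideal.eq_top_iff_one _).mpr (h ▸ Ideal.zero_mem _))⟩⟩
  IsLocalRing.of_surjective' (Ideal.Quotient.mk _) Ideal.Quotient.mk_surjective

theorem maximalIdeal_eq : IsLocalRing.maximalIdeal N = Ideal.span {tt, ee} := by
  refine le_antisymm (fun x hx => ?_) (IsLocalRing.le_maximalIdeal span_ne_top)
  obtain ⟨b, hb⟩ := exists_sub_mem x
  by_contra hx'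
  apply hx
  rcases em (IsUnit b) with hb' | hb'
  · have hu := hb'.map jj
    by_contra hnx
    have h1 : x - jj b ∈ IsLocalRing.maximalIdeal N := IsLocalRing.le_maximalIdeal span_ne_top hb
    have h2 := Ideal.sub_mem _ (show x ∈ IsLocalRing.maximalIdeal N from hnx) h1
    rw [sub_sub_cancel] at h2
    exact h2 hu
  · refine absurd ?_ hx'
    have hb'' : b ∈ IsLocalRing.maximalIdeal B := hb'
    rw [maximalIdeal_base (π := π), Ideal.mem_span_singleton'] at hb''
    obtain ⟨c, rfl⟩ := hb''
    have h2 : jj (c * π) ∈ Ideal.span {tt, ee} := by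
      rw [map_mul, ← t_mul_e]
      exact Ideal.mul_mem_left _ _ (Ideal.mul_mem_right _ _ (Ideal.subset_span (by simp)))
    simpa using Ideal.add_mem _ hb h2

theorem len_t_e : len (Ideal.span {tt, ee}) = 1 :=
  len_maximal (maximalIdeal_eq (π := π) ▸ IsLocalRing.maximalIdeal.isMaximal N)

variable [IsNoetherianRing B]

omit hp in
instance isNoetherianRing_nodeAlg : IsNoetherianRing N :=
  haveI : IsNoetherianRing (MvPowerSeries (Fin 2) B) := MvPowerSeries.isNoetherianRing B
  isNoetherianRing_of_surjective _ _ (Ideal.Quotient.mk _) Ideal.Quotient.mk_surjective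

theorem fixIdeal_le_node (σ : N ≃+* N) {I : Ideal N} (hB : ∀ b, σ (jj b) - jj b ∈ I)
    (ht : σ tt - tt ∈ I) (he : σ ee - ee ∈ I) : ArLef.fixIdeal σ ≤ I := by
  refine fixIdeal_le σ (C := Set.range jj) maximalIdeal_eq ?_ ?_ ?_
  · intro r
    obtain ⟨b, hb⟩ := exists_sub_mem (π := π) r
    exact ⟨jj b, ⟨b, rfl⟩, maximalIdeal_eq (π := π) ▸ hb⟩
  · rintro _ ⟨b, rfl⟩
    exact hB b
  · rintro g (rfl | rfl) <;> assumption

end Prime

section DVR

theorem isMaximal_span_irreducible [IsDomain B] [IsDiscreteValuationRing B] {π : B} (hπ : Irreducible π) :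
    (Ideal.span {π}).IsMaximal := by
  rw [← (IsDiscreteValuationRing.irreducible_iff_uniformizer π).mp hπ]
  exact IsLocalRing.maximalIdeal.isMaximal B

theorem isMaximal_span_zero (k : Type u) [Field k] : (Ideal.span {(0 : k)}).IsMaximal := by
  rw [Ideal.span_singleton_eq_bot.mpr rfl]
  exact Ideal.bot_isMaximal

end DVR

end Groth.Agent.ArLefNode
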