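import Groth.Agent.ArLefNode.General
import Mathlib.RingTheory.DiscreteValuationRing.Basic
import Mathlib.RingTheory.PowerSeries.Inverse
import Mathlib.RingTheory.PowerSeries.Ideal
import Mathlib.RingTheory.LocalRing.ResidueField.Basic

/-!
# Fixed-point ideals on `B[[t]]`
-/

set_option autoImplicit false

universe u

noncomputable section

open PowerSeries

namespace Groth.Agent.ArLefNode

variable {B : Type u} [CommRing B] [IsDomain B] [IsDiscreteValuationRing B] {π : B}

local notation "S" => PowerSeries B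
local notation "kk" => IsLocalRing.ResidueField B
local notation "red" => PowerSeries.map (IsLocalRing.residue B)

theorem red_surjective : Function.Surjective (red : S → PowerSeries kk) := by
  intro g
  choose c hc using fun n => IsLocalRing.residue_surjective (R := B) (PowerSeries.coeff n g)
  exact ⟨PowerSeries.mk c, PowerSeries.ext fun n => by rw [PowerSeries.coeff_map, PowerSeries.coeff_mk, hc]⟩

variable (hπ : Irreducible π)

include hπ

theorem red_eq_zero_iff (g : S) : red g = 0 ↔ algebraMap B S π ∣ g := by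
  have hres : ∀ b : B, IsLocalRing.residue B b = 0 ↔ π ∣ b := fun b => by
    rw [IsLocalRing.residue_eq_zero_iff, (IsDiscreteValuationRing.irreducible_iff_uniformizer π).mp hπ,
      Ideal.mem_span_singleton]
  constructor
  · intro h
    choose c hc using fun n => (hres _).mp (by
      have := congrArg (PowerSeries.coeff n) h
      rwa [PowerSeries.coeff_map, map_zero] at this)
    refine ⟨PowerSeries.mk c, PowerSeries.ext fun n => ?_⟩
    rw [PowerSeries.algebraMap_eq, PowerSeries.coeff_C_mul, PowerSeries.coeff_mk]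
    exact hc n
  · rintro ⟨c, rfl⟩
    rw [map_mul, PowerSeries.algebraMap_eq, PowerSeries.map_C, (hres π).mpr dvd_rfl, map_zero, zero_mul]

theorem maximalIdeal_powerSeries :
    IsLocalRing.maximalIdeal S = Ideal.span {algebraMap B S π, PowerSeries.X} := by
  refine le_antisymm (fun g hg => ?_) (Ideal.span_le.mpr ?_)
  · obtain ⟨c, hc⟩ : π ∣ PowerSeries.constantCoeff g := by
      have : PowerSeries.constantCoeff g ∈ IsLocalRing.maximalIdeal B := fun hu =>
        hg (PowerSeries.isUnit_iff_constantCoeff.mpr hu)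
      rwa [(IsDiscreteValuationRing.irreducible_iff_uniformizer π).mp hπ, Ideal.mem_span_singleton] at this
    obtain ⟨h, hh⟩ : PowerSeries.X ∣ g - PowerSeries.C (PowerSeries.constantCoeff g) := by
      rw [PowerSeries.X_dvd_iff]; simp
    refine Ideal.mem_span_pair.mpr ⟨PowerSeries.C c, h, ?_⟩
    rw [hc, map_mul] at hh
    rw [PowerSeries.algebraMap_eq]
    linear_combination -hh
  · rintro x (rfl | rfl) <;> intro hu
    · rw [PowerSeries.algebraMap_eq] at hu
      have := PowerSeries.isUnit_iff_constantCoeff.mp hu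
      rw [PowerSeries.constantCoeff_C] at this
      exact hπ.not_isUnit this
    · exact PowerSeries.X_prime.not_unit hu

theorem fixIdeal_powerSeries {j : ℕ} (hj : 1 ≤ j) (γ : Bˣ) (σ : S ≃+* S)
    (hσB : ∀ b : B, σ (algebraMap B S b) - algebraMap B S b ∈ Ideal.span {algebraMap B S (π ^ j)})
    (hσπ : σ (algebraMap B S π) = algebraMap B S (π + γ * π ^ j)) :
    ArLef.fixIdeal σ = Ideal.span {algebraMap B S (π ^ j), σ PowerSeries.X - PowerSeries.X} := by
  refine le_antisymm (fixIdeal_le σ (C := Set.range (algebraMap B S)) (maximalIdeal_powerSeries hπ) ?_ ?_ ?_) ?_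
  · intro r
    refine ⟨_, ⟨PowerSeries.constantCoeff r, rfl⟩, ?_⟩
    rw [maximalIdeal_powerSeries hπ]
    obtain ⟨h, hh⟩ : PowerSeries.X ∣ r - algebraMap B S (PowerSeries.constantCoeff r) := by
      rw [PowerSeries.X_dvd_iff]; simp
    rw [hh]
    exact Ideal.mul_mem_right _ _ (Ideal.subset_span (by simp))
  · rintro _ ⟨b, rfl⟩
    exact Ideal.span_mono (by simp) (hσB b)
  · rintro g (rfl | rfl)
    · rw [hσπ, map_add, add_sub_cancel_left, map_mul]
      exact Ideal.mul_mem_left _ _ (Ideal.subset_span (by simp))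
    · exact Ideal.subset_span (by simp)
  · rw [Ideal.span_le]
    rintro x (rfl | rfl)
    · have h := sub_mem_fixIdeal σ (algebraMap B S π)
      rw [hσπ, map_add, add_sub_cancel_left, map_mul] at h
      exact mem_of_unit_mul_mem (Units.map (algebraMap B S : B →* S) γ).isUnit _ h
    · exact sub_mem_fixIdeal σ _

theorem len_pi_pow {f : S} (hf : ¬ algebraMap B S π ∣ f) (n : ℕ) :
    len (Ideal.span {algebraMap B S (π ^ n), f}) = (n : ℕ∞) * len (Ideal.span {red f}) := by
  have hreg : ∀ y, f ∣ algebraMap B S π * y → f ∣ y := by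
    rintro y ⟨c, hc⟩
    have h := congrArg red hc
    rw [map_mul, map_mul, (red_eq_zero_iff hπ _).mpr dvd_rfl, zero_mul, eq_comm, mul_eq_zero] at h
    obtain ⟨c', rfl⟩ := (red_eq_zero_iff hπ _).mp (h.resolve_left fun h0 => hf ((red_eq_zero_iff hπ f).mp h0))
    refine ⟨c', mul_left_cancel₀ (show algebraMap B S π ≠ 0 from fun h0 => hπ.ne_zero ?_) ?_⟩
    · simpa using congrArg PowerSeries.constantCoeff h0
    · linear_combination hc
  rw [Ideal.span_pair_comm, map_pow, len_pair_pow hreg]
  congr 1
  refine len_eq_of_surjective red red_surjective (le_antisymm (Ideal.span_le.mpr ?_) fun g hg => ?_)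
  · rintro x (rfl | rfl)
    · exact Ideal.mem_span_singleton_self _
    · show red _ ∈ Ideal.span {red f}
      rw [(red_eq_zero_iff hπ _).mpr dvd_rfl]
      exact Ideal.zero_mem _
  · obtain ⟨c, hc⟩ := Ideal.mem_span_singleton'.mp (Ideal.mem_comap.mp hg)
    obtain ⟨c, rfl⟩ := red_surjective c
    rw [← map_mul, eq_comm, ← sub_eq_zero, ← map_sub, red_eq_zero_iff hπ] at hc
    obtain ⟨d, hd⟩ := hc
    exact Ideal.mem_span_pair.mpr ⟨c, d, by linear_combination -hd⟩

theorem colon_pi_pow {j i : ℕ} (hij : i ≤ j) (f : S) :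
    (Ideal.span {algebraMap B S (π ^ j), algebraMap B S (π ^ i) * f}).colon ({algebraMap B S (π ^ i)} : Set S) =
      Ideal.span {algebraMap B S (π ^ (j - i)), f} := by
  obtain ⟨l, rfl⟩ := Nat.exists_eq_add_of_le hij
  have hne : algebraMap B S (π ^ i) ≠ 0 := fun h0 => pow_ne_zero i hπ.ne_zero (by
    simpa using congrArg PowerSeries.constantCoeff h0)
  ext x
  rw [Submodule.mem_colon_singleton, Ideal.mem_span_pair, Ideal.mem_span_pair, Nat.add_sub_cancel_left]
  simp only [smul_eq_mul, pow_add, map_mul]
  constructor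
  · rintro ⟨r, s, h⟩
    exact ⟨r, s, mul_left_cancel₀ hne (by linear_combination h)⟩
  · rintro ⟨r, s, rfl⟩
    exact ⟨r, s, by ring⟩

end Groth.Agent.ArLefNode
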